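import Cfsg.Agent.SL2Tensor.Mult
import Mathlib.RingTheory.RootsOfUnity.PrimitiveRoots

/-!
Eigenvalues of semisimple elements in the twisted tensor products, with the degree vectors coded
by natural numbers in base 3, and the multiplicity data of a representation over the prime field.
-/

set_option autoImplicit false
set_option linter.style.haveILetI false
set_option linter.unusedSectionVars false

namespace CfsgLib.SL2Tensor

open Polynomial

/-- The residues modulo `M` of the weights of a list of degrees and powers. -/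
def wrec (M : ℕ) : List (ℕ × ℕ) → List ℕ
  | [] => [0]
  | (a, p) :: r => (List.range (a + 1)).flatMap fun j =>
      (wrec M r).map fun e => (a * p + j * (2 * (M - p % M)) + e) % M

theorem wrec_lt {M : ℕ} (hM : 0 < M) : ∀ r : List (ℕ × ℕ), ∀ e ∈ wrec M r, e < M
  | [], e, h => by simp only [wrec, List.mem_singleton] at h; omega
  | (a, p) :: r, e, h => by
    simp only [wrec, List.mem_flatMap, List.mem_map] at h
    obtain ⟨j, -, e', -, rfl⟩ := h
    exact Nat.mod_lt _ hM

/-- The degree vector with a given code. -/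
def dec (n c : ℕ) : Fin n → Fin 3 := fun i => ⟨c / 3 ^ i.val % 3, Nat.mod_lt _ (by norm_num)⟩

/-- The digits and powers of a code. -/
def digs (n c : ℕ) : List (ℕ × ℕ) := (List.range n).map fun i => (c / 3 ^ i % 3, 3 ^ i)

/-- The shift of a code. -/
def rot (n c : ℕ) : ℕ := c % 3 ^ (n - 1) * 3 + c / 3 ^ (n - 1)

/-- The dimension of the module of a code. -/
def dimC (n c : ℕ) : ℕ := ((List.range n).map fun i => c / 3 ^ i % 3 + 1).prod

/-- The number of weights of residue `2 k` modulo `2 m`. -/
def wcount (n m k c : ℕ) : ℕ := (wrec (2 * m) (digs n c)).countP (· == 2 * k % (2 * m))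

theorem digs_eq (n c : ℕ) :
    List.ofFn (fun i : Fin n => (((dec n c i) : ℕ), 3 ^ i.val)) = digs n c := by
  refine List.ext_getElem (by simp [digs]) fun i h1 h2 => ?_
  simp [digs, dec]

theorem dec_code {n : ℕ} (a : Fin n → Fin 3) :
    dec n (finFunctionFinEquiv a : Fin (3 ^ n)).val = a := by
  funext i
  refine Fin.ext ?_
  have h := congrArg Fin.val (congrFun (finFunctionFinEquiv.symm_apply_apply a) i)
  rw [finFunctionFinEquiv_symm_apply_val] at h
  exact h

theorem sum_codes {M : Type*} [AddCommMonoid M] {n : ℕ} (f : (Fin n → Fin 3) → M) :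
    ∑ a, f a = ∑ c ∈ Finset.range (3 ^ n), f (dec n c) := by
  rw [← Fin.sum_univ_eq_sum_range (fun c => f (dec n c))]
  refine Fintype.sum_equiv finFunctionFinEquiv _ _ fun a => ?_
  rw [dec_code]

theorem neg_one_ne_one_three {K : Type*} [Field K] [CharP K 3] : (-1 : K) ≠ 1 := fun h => by
  have h2 : ((2 : ℕ) : K) = 0 := by push_cast; linear_combination -h
  rw [CharP.cast_eq_zero_iff K 3] at h2
  norm_num at h2

theorem roots_charpoly_one (L : Type*) [Field L] (d : Type*) [Fintype d] [DecidableEq d] :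
    (1 : Matrix d d L).charpoly.roots = Fintype.card d • ({1} : Multiset L) := by
  rw [Matrix.charpoly_one, show (X - 1 : L[X]) = X - C 1 by rw [map_one], Polynomial.roots_pow,
    Polynomial.roots_X_sub_C]

theorem card_idx_dec (n c : ℕ) : Fintype.card (Idx (dec n c)) = dimC n c := by
  rw [Fintype.card_pi, dimC, ← List.prod_toFinset _ (List.nodup_range), List.toFinset_range,
    ← Fin.prod_univ_eq_prod_range (fun i => c / 3 ^ i % 3 + 1)]
  exact Finset.prod_congr rfl fun i _ => Fintype.card_fin _

variable {K : Type} [Field K]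

/-- The eigenvalue of a weight. -/
def wval {n : ℕ} (a : Fin n → Fin 3) (p : Fin n → ℕ) (u : K) (j : Idx a) : K :=
  ∏ i, (u ^ p i) ^ ((a i).val - (j i).val) * (u⁻¹ ^ p i) ^ (j i).val

theorem wval_pow {n : ℕ} (a : Fin n → Fin 3) (p : Fin n → ℕ) (u : K) (e : ℕ) (j : Idx a) :
    wval a p u j ^ e = wval a p (u ^ e) j := by
  rw [wval, wval, ← Finset.prod_pow]
  refine Finset.prod_congr rfl fun i _ => ?_
  rw [mul_pow, ← inv_pow]
  simp only [← pow_mul]
  ring_nf

theorem weight_step {M : ℕ} {u : K} (hu : u ^ M = 1) (hM : 0 < M) {a j : ℕ} (p e : ℕ)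
    (hj : j ≤ a) :
    (u ^ p) ^ (a - j) * (u⁻¹ ^ p) ^ j * u ^ e =
      u ^ ((a * p + j * (2 * (M - p % M)) + e) % M) := by
  have hu0 : u ≠ 0 := fun h => by simp [h, zero_pow hM.ne'] at hu
  rw [← pow_eq_pow_mod _ hu, pow_add, pow_add, inv_pow, inv_pow]
  congr 1
  have ht : u ^ (j * (2 * (M - p % M))) * ((u ^ p) ^ j * (u ^ p) ^ j) = 1 := by
    rw [← pow_mul, ← pow_add, ← pow_add]
    have : j * (2 * (M - p % M)) + (p * j + p * j) = M * (2 * j * (p / M + 1)) := by
      have h1 := Nat.mod_lt p hM
      have h2 := Nat.div_add_mod p M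
      obtain ⟨d, hd⟩ : ∃ d, M = p % M + d := ⟨_, (Nat.add_sub_of_le h1.le).symm⟩
      have hd' : M - p % M = d := by omega
      rw [hd']
      calc j * (2 * d) + (p * j + p * j) = 2 * j * (d + p) := by ring
        _ = 2 * j * (d + (M * (p / M) + p % M)) := by rw [h2]
        _ = 2 * j * (M * (p / M) + (p % M + d)) := by ring
        _ = 2 * j * (M * (p / M) + M) := by rw [← hd]
        _ = _ := by ring
    rw [this, pow_mul, hu, one_pow]
  have hs : (u ^ p) ^ j ≠ 0 := pow_ne_zero _ (pow_ne_zero _ hu0)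
  have ha : (u ^ p) ^ (a - j) * (u ^ p) ^ j = u ^ (a * p) := by
    rw [← pow_add, Nat.sub_add_cancel hj, ← pow_mul, mul_comm]
  refine mul_right_cancel₀ (mul_ne_zero hs hs) ?_
  rw [mul_assoc (u ^ (a * p)), ht, mul_one, ← mul_assoc, mul_assoc ((u ^ p) ^ (a - j)),
    inv_mul_cancel₀ hs, mul_one, ha]

theorem map_wval {M : ℕ} {u : K} (hu : u ^ M = 1) (hM : 0 < M) :
    ∀ (n : ℕ) (a : Fin n → Fin 3) (p : Fin n → ℕ), (Finset.univ : Finset (Idx a)).val.map (wval a p u) =
      (((wrec M (List.ofFn fun i => ((a i).val, p i))).map (u ^ ·) : List K) : Multiset K) := by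
  intro n
  induction n with
  | zero =>
    intro a p
    rw [Finset.univ_unique, Finset.singleton_val, Multiset.map_singleton]
    simp [wval, wrec]
  | succ n ih =>
    intro a p
    let E := Fin.consEquiv fun i => Fin ((a i).val + 1)
    rw [← Multiset.map_univ_val_equiv E, Multiset.map_map, List.ofFn_succ, wrec,
      ← List.map_coe_finRange_eq_range, List.flatMap_map, List.map_flatMap, ← Multiset.coe_bind,
      ← Finset.univ_product_univ, Finset.product_val]
    show Multiset.map _ (Multiset.product _ _) = _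
    rw [Multiset.product, Multiset.map_bind, Fin.univ_def]
    refine Multiset.bind_congr fun j _ => ?_
    rw [List.map_map, Multiset.map_map]
    have h := congrArg
      (Multiset.map fun t => (u ^ p 0) ^ ((a 0).val - j.val) * (u⁻¹ ^ p 0) ^ j.val * t)
      (ih (fun i => a i.succ) (fun i => p i.succ))
    rw [Multiset.map_map, Multiset.map_coe, List.map_map] at h
    refine Eq.trans ?_ (h.trans (congrArg (fun l : List K => (l : Multiset K))
      (List.map_congr_left fun e _ => ?_)))
    · refine Multiset.map_congr rfl fun t _ => ?_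
      simp only [Function.comp_apply, wval, Fin.prod_univ_succ]
      rfl
    · simp only [Function.comp_apply]
      exact weight_step hu hM _ _ (Nat.lt_succ_iff.mp j.isLt)

/-- Counting a root of unity among the eigenvalues of the powers. -/
theorem count_wval {n m e c k : ℕ} (hm : 0 < m) {u : K} (hu : IsPrimitiveRoot u (e * (2 * m)))
    (he : 0 < e) [DecidableEq K] :
    (((Finset.univ : Finset (Idx (dec n c))).val.map
      (wval (dec n c) (fun i => 3 ^ i.val) u)).map (· ^ e)).count ((u ^ e) ^ (2 * k)) =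
      wcount n m k c := by
  have hue : IsPrimitiveRoot (u ^ e) (2 * m) := hu.pow (Nat.mul_pos he (by omega)) rfl
  rw [Multiset.map_map,
    Multiset.map_congr rfl (fun j _ => by rw [Function.comp_apply, wval_pow]),
    map_wval hue.pow_eq_one (by omega), digs_eq, Multiset.coe_count, List.count_eq_countP,
    List.countP_map, wcount]
  refine List.countP_congr fun w hw => ?_
  simp only [Function.comp_apply, beq_iff_eq]
  rw [pow_eq_pow_mod (2 * k) hue.pow_eq_one]
  exact ⟨fun h => hue.pow_inj (wrec_lt (by omega) _ w hw) (Nat.mod_lt _ (by omega)) h,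
    fun h => by rw [h]⟩

variable {F : Type*} [Field F] [Fintype F] [CharP K 3] [IsAlgClosed K] (ι : F →+* K) {n : ℕ}
  (hF : Fintype.card F = 3 ^ n)

local notation "G" => Matrix.SpecialLinearGroup (Fin 2) F

/-- The eigenvalues of a diagonalisable element. -/
theorem roots_rhoM (a : Fin n → Fin 3) {g : G} {u : K} {P : Matrix (Fin 2) (Fin 2) K}
    (hP : P.det ≠ 0)
    (h : (g : Matrix (Fin 2) (Fin 2) F).map ι * P = P * !![u, 0; 0, u⁻¹]) :
    (rhoM ι a g).charpoly.roots =
      (Finset.univ : Finset (Idx a)).val.map (wval a (fun i => 3 ^ i.val) u) := by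
  classical
  haveI : Fact (Nat.Prime 3) := ⟨Nat.prime_three⟩
  let Q : Fin n → Matrix (Fin 2) (Fin 2) K := fun i => P.map (iterateFrobenius K 3 i.val)
  let D : Fin n → Matrix (Fin 2) (Fin 2) K := fun i => !![u ^ 3 ^ i.val, 0; 0, u⁻¹ ^ 3 ^ i.val]
  have hQ : ∀ i, (Q i).det ≠ 0 := fun i => by
    show (P.map (iterateFrobenius K 3 i.val)).det ≠ 0
    rw [← RingHom.mapMatrix_apply, ← RingHom.map_det]
    exact (_root_.map_ne_zero _).mpr hP
  have h1 : rhoM ι a g * tens a Q = tens a Q * tens a D := by
    rw [rhoM, ← tens_mul, ← tens_mul]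
    refine congrArg (tens a) (funext fun i => ?_)
    have h2 := congrArg (fun A : Matrix (Fin 2) (Fin 2) K => A.map (iterateFrobenius K 3 i.val)) h
    simp only [Matrix.map_mul, Matrix.map_map] at h2
    refine Eq.trans h2 (congrArg (Q i * ·) ?_)
    ext x y
    fin_cases x <;> fin_cases y <;> simp [D, iterateFrobenius_def]
  have hu : IsUnit (tens a Q) :=
    ⟨⟨tens a Q, tens a (fun i => (Q i)⁻¹), by
      rw [← tens_mul, ← tens_one a]
      exact congrArg (tens a) (funext fun i => Matrix.mul_nonsing_inv _ (hQ i).isUnit), by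
      rw [← tens_mul, ← tens_one a]
      exact congrArg (tens a) (funext fun i => Matrix.nonsing_inv_mul _ (hQ i).isUnit)⟩, rfl⟩
  obtain ⟨U, hU⟩ := hu
  have h3 : rhoM ι a g = U.val * tens a D * U⁻¹.val := by
    rw [hU, ← h1, ← hU, mul_assoc, Units.mul_inv, mul_one]
  rw [h3, Matrix.coe_units_inv, Matrix.charpoly_units_conj, tens_diag, Matrix.charpoly_diagonal,
    Finset.prod_eq_multiset_prod, ← Polynomial.roots_multiset_prod_X_sub_C
      ((Finset.univ : Finset (Idx a)).val.map (wval a (fun i => 3 ^ i.val) u)),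
    Multiset.map_map]
  rfl

include hF in
/-- The multiplicity data of a representation over the prime field trivial on the centre. -/
theorem mult_data {m : Type} [Fintype m] [DecidableEq m] [Algebra (ZMod 3) K]
    (ρ : G →* Matrix m m (ZMod 3)) (hneg : ρ (-1) = 1)
    (hrot : ∀ c < 3 ^ n, ∀ i : Fin n, rot n c / 3 ^ i.val % 3 =
      c / 3 ^ ((finRotate n).symm i).val % 3) :
    ∃ g : ℕ → ℕ,
      (∀ x : G, ((ρ x).map (algebraMap (ZMod 3) K)).charpoly.roots =
        ∑ c ∈ Finset.range (3 ^ n), g c • (rhoM ι (dec n c) x).charpoly.roots) ∧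
      (∀ c < 3 ^ n, g (rot n c) = g c) ∧
      (∀ c < 3 ^ n, ((digs n c).map Prod.fst).sum % 2 = 1 → g c = 0) ∧
      (∑ c ∈ Finset.range (3 ^ n), g c * dimC n c = Fintype.card m) ∧
      ((∀ c < 3 ^ n, c ≠ 0 → g c = 0) → ∀ x : G,
        ((ρ x).map (algebraMap (ZMod 3) K)).charpoly = (X - C 1) ^ Fintype.card m) := by
  classical
  haveI : Fact (Nat.Prime 3) := ⟨Nat.prime_three⟩
  obtain ⟨mlt, h⟩ := charpoly_decomp ι hF
    ((algebraMap (ZMod 3) K).mapMatrix.toMonoidHom.comp ρ)
  replace h : ∀ x : G, ((ρ x).map (algebraMap (ZMod 3) K)).charpoly =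
      ∏ a, (rhoM ι a x).charpoly ^ mlt a := h
  have hne : ∀ x : G, (∏ a, (rhoM ι a x).charpoly ^ mlt a) ≠ 0 := fun x =>
    Finset.prod_ne_zero_iff.mpr fun a _ => pow_ne_zero _ (Matrix.charpoly_monic _).ne_zero
  have hr : ∀ x : G, ((ρ x).map (algebraMap (ZMod 3) K)).charpoly.roots =
      ∑ c ∈ Finset.range (3 ^ n), mlt (dec n c) • (rhoM ι (dec n c) x).charpoly.roots := fun x => by
    rw [h, Polynomial.roots_prod _ _ (hne x), ← sum_codes fun a => mlt a • (rhoM ι a x).charpoly.roots]
    simp only [Polynomial.roots_pow]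
    exact Finset.sum_eq_multiset_sum _ _ |>.symm.trans rfl
  refine ⟨fun c => mlt (dec n c), hr, fun c hc => ?_, fun c hc hodd => ?_, ?_, fun h0 x => ?_⟩
  · have e : dec n (rot n c) = shift (dec n c) := funext fun i => Fin.ext (hrot c hc i)
    exact (congrArg mlt e).trans (mult_shift ι hF ρ h _)
  · by_contra h0
    have hs : ∀ i : Fin n, wval (dec n c) (fun i => 3 ^ i.val) (-1 : K) = fun _ => -1 := fun _ => by
      funext j
      have hodd' : Odd (∑ i : Fin n, (dec n c i).val) := by
        rw [Nat.odd_iff, ← hodd]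
        congr 1
        rw [← digs_eq, List.map_ofFn, List.sum_ofFn]
        rfl
      show wval (dec n c) (fun i => 3 ^ i.val) (-1 : K) j = -1
      trans ∏ i : Fin n, (-1 : K) ^ (dec n c i).val
      swap
      · rw [Finset.prod_pow_eq_pow_sum, hodd'.neg_one_pow]
      refine Finset.prod_congr rfl fun i _ => ?_
      have hp : ((-1 : K)) ^ 3 ^ i.val = -1 := (Odd.pow (by decide : Odd 3)).neg_one_pow
      rw [show (-1 : K)⁻¹ = -1 by rw [inv_neg, inv_one], hp, ← pow_add,
        Nat.sub_add_cancel (Nat.lt_succ_iff.mp (j i).isLt)]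
    have h1 := roots_rhoM ι (dec n c) (g := (-1 : G)) (u := (-1 : K)) (P := 1) (by simp) (by
      rw [mul_one, one_mul]
      ext x y
      fin_cases x <;> fin_cases y <;> simp)
    rcases n with _ | n
    · simp [digs] at hodd
    have hmem : (-1 : K) ∈ ((ρ (-1)).map (algebraMap (ZMod 3) K)).charpoly.roots := by
      rw [hr, Multiset.mem_sum]
      refine ⟨c, Finset.mem_range.mpr hc, ?_⟩
      rw [Multiset.mem_nsmul]
      refine ⟨h0, ?_⟩
      rw [h1, hs 0, Multiset.mem_map]
      exact ⟨fun i => 0, Finset.mem_univ _, rfl⟩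
    rw [hneg, Matrix.map_one _ (map_zero _) (map_one _), roots_charpoly_one, Multiset.mem_nsmul,
      Multiset.mem_singleton] at hmem
    exact neg_one_ne_one_three hmem.2
  · have h1 := congrArg Multiset.card (hr 1)
    simp only [map_one, Matrix.map_one _ (map_zero _) (map_one _), rhoM_one,
      roots_charpoly_one] at h1
    simp only [Multiset.card_sum, Multiset.card_nsmul, Multiset.card_singleton, mul_one,
      card_idx_dec] at h1
    exact h1.symm
  · have hz : ∀ a : Fin n → Fin 3, a ≠ 0 → mlt a = 0 := fun a ha => by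
      have := h0 _ (finFunctionFinEquiv a).isLt fun e => ha (by
        rw [← dec_code a, e]; funext i; simp [dec])
      dsimp only at this
      rwa [dec_code] at this
    have hρ : ∀ x : G, ((ρ x).map (algebraMap (ZMod 3) K)).charpoly =
        (X - C 1) ^ mlt 0 := fun x => by
      rw [h, Finset.prod_eq_single (0 : Fin n → Fin 3) (fun a _ ha => by rw [hz a ha, pow_zero])
        (fun e => absurd (Finset.mem_univ _) e)]
      congr 1
      rw [show rhoM ι (0 : Fin n → Fin 3) x = 1 by
        ext j l
        haveI : Subsingleton (Idx (0 : Fin n → Fin 3)) :=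
          ⟨fun j l => funext fun i => Fin.ext (by have := (j i).isLt; have := (l i).isLt; simp at * <;> omega)⟩
        obtain rfl := Subsingleton.elim j l
        rw [Matrix.one_apply_eq, rhoM, tens]
        exact Finset.prod_eq_one fun i _ => by simp [symM], Matrix.charpoly_one, map_one,
        show Fintype.card (Idx (0 : Fin n → Fin 3)) = 1 from (Fintype.card_pi).trans
          (Finset.prod_eq_one fun i _ => Fintype.card_fin _), pow_one]
    have hd := congrArg natDegree (hρ x)
    rw [Matrix.charpoly_natDegree_eq_dim, natDegree_pow, natDegree_X_sub_C, mul_one] at hd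
    rw [hρ, hd]

end CfsgLib.SL2Tensor
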