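import Cfsg.Agent.BlocksB.Cyclic.Modules
import Mathlib.GroupTheory.SpecificGroups.Cyclic
import Mathlib.Algebra.Group.Conj
import Mathlib.GroupTheory.OrderOfElement
import Mathlib.LinearAlgebra.Dimension.StrongRankCondition
import Mathlib.LinearAlgebra.Dimension.Constructions

/-!
There are at most as many simple modules as classes of elements of order prime to the
characteristic.
-/

set_option autoImplicit false
set_option linter.unusedSectionVars false

namespace CfsgLib.SL2Tensor

open MonoidAlgebra CfsgLib.Cyclic Module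

variable {k : Type*} [Field k] [IsAlgClosed k] {p : ℕ} [Fact p.Prime] [CharP k p]
  {G : Type*} [Group G] [Finite G]

/-- Every element is the commuting product of an element of `p`-power order and one of order prime
to `p`. -/
theorem exists_parts (g : G) : ∃ x s : G, x * s = g ∧ Commute x s ∧ (∃ m, x ^ p ^ m = 1) ∧
    (orderOf s).Coprime p := by
  have hg : 0 < orderOf g := orderOf_pos g
  set a := (orderOf g).factorization p
  set m := ordCompl[p] (orderOf g) with hm
  have hpm : p ^ a * m = orderOf g := Nat.ordProj_mul_ordCompl_eq_self _ p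
  have hcop : Nat.Coprime (p ^ a) m := (Nat.coprime_ordCompl Fact.out hg.ne').pow_left a
  set u := Nat.gcdA (p ^ a) m
  set v := Nat.gcdB (p ^ a) m
  have hbez : ((p ^ a : ℕ) : ℤ) * u + (m : ℤ) * v = 1 := by
    rw [← Nat.gcd_eq_gcd_ab, hcop.gcd_eq_one]; rfl
  refine ⟨g ^ ((m : ℤ) * v), g ^ (((p ^ a : ℕ) : ℤ) * u), ?_, ?_, ⟨a, ?_⟩, ?_⟩
  · rw [← zpow_add, add_comm, hbez, zpow_one]
  · exact Commute.zpow_zpow_self g _ _
  · rw [← zpow_natCast, ← zpow_mul, mul_assoc, mul_comm v, ← mul_assoc, ← Nat.cast_mul,
      mul_comm m, hpm, zpow_mul, zpow_natCast, pow_orderOf_eq_one, one_zpow]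
  · have h : (g ^ (((p ^ a : ℕ) : ℤ) * u)) ^ m = 1 := by
      rw [← zpow_natCast, ← zpow_mul, mul_assoc, mul_comm u, ← mul_assoc, ← Nat.cast_mul, hpm,
        zpow_mul, zpow_natCast, pow_orderOf_eq_one, one_zpow]
    refine Nat.Coprime.coprime_dvd_left (orderOf_dvd_of_pow_eq_one h) ?_
    exact (Nat.coprime_ordCompl Fact.out hg.ne').symm

/-- The classes of elements of order prime to `p`. -/
abbrev RegCls (p : ℕ) (G : Type*) [Group G] :=
  {c : ConjClasses G // ∃ g : G, ConjClasses.mk g = c ∧ (orderOf g).Coprime p}

variable {ι : Type*} [Fintype ι] (T : ι → Type*) [∀ j, AddCommGroup (T j)] [∀ j, Module k (T j)]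
  [∀ j, Module (MonoidAlgebra k G) (T j)] [∀ j, IsScalarTower k (MonoidAlgebra k G) (T j)]
  [∀ j, FiniteDimensional k (T j)] [∀ j, IsSimpleModule (MonoidAlgebra k G) (T j)]

/-- A relation between the traces on regular elements of non-isomorphic simple modules is
trivial. -/
theorem trace_indep (hne : ∀ i j, i ≠ j → IsEmpty (T i ≃ₗ[MonoidAlgebra k G] T j)) (c : ι → k)
    (h : ∀ s : G, (orderOf s).Coprime p →
      ∑ j, c j * LinearMap.trace k (T j) (act k (T j) (single s (1 : k))) = 0) : c = 0 := by
  classical
  letI := Fintype.ofFinite G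
  let τ : ι → MonoidAlgebra k G →ₗ[k] k := fun j =>
    (LinearMap.trace k (T j)).comp (act k (T j)).toLinearMap
  have h0 : ∀ a, ∑ j, c j * τ j a = 0 := by
    intro a
    induction a using MonoidAlgebra.induction_on with
    | of g =>
      obtain ⟨x, s, hg, hc, ⟨m, hm⟩, hs⟩ := exists_parts (p := p) g
      simp only [τ, LinearMap.comp_apply, AlgHom.toLinearMap_apply, MonoidAlgebra.of_apply, ← hg]
      rw [Finset.sum_congr rfl fun j _ => by rw [trace_pPart (p := p) hc hm]]
      exact h s hs
    | add a b ha hb =>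
      simp only [map_add, mul_add, Finset.sum_add_distrib, ha, hb, add_zero]
    | smul r a ha =>
      simp only [map_smul, smul_eq_mul, mul_left_comm _ r, ← Finset.mul_sum, ha, mul_zero]
  funext j
  haveI := IsSimpleModule.nontrivial (MonoidAlgebra k G) (T j)
  obtain ⟨v, hv⟩ := exists_ne (0 : T j)
  obtain ⟨ψ, hψ⟩ : ∃ ψ : Dual k (T j), ψ v ≠ 0 := by
    by_contra hh
    simp only [not_exists, not_not] at hh
    exact hv ((Module.forall_dual_apply_eq_zero_iff k v).1 hh)
  obtain ⟨e, he⟩ := exists_smul_eq (S := T j) (k := k) (G := G) (ψ.smulRight v)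
  obtain ⟨a, ha, ha'⟩ := exists_separating T hne j
  have h1 := h0 (a * e)
  rw [Finset.sum_eq_single j] at h1
  · have h2 : τ j (a * e) = ψ v := by
      show LinearMap.trace k (T j) (act k (T j) (a * e)) = _
      rw [show act k (T j) (a * e) = ψ.smulRight v from LinearMap.ext fun x => by
        rw [act_apply, mul_smul, ha, he], LinearMap.trace_smulRight]
    rw [h2, mul_eq_zero] at h1
    exact h1.resolve_right hψ
  · intro l _ hl
    have h2 : τ l (a * e) = 0 := by
      show LinearMap.trace k (T l) (act k (T l) (a * e)) = _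
      rw [show act k (T l) (a * e) = 0 from LinearMap.ext fun x => by
        rw [act_apply, mul_smul, ha' l hl, LinearMap.zero_apply], map_zero]
    rw [h2, mul_zero]
  · simp

theorem trace_conj {S : Type*} [AddCommGroup S] [Module k S] [Module (MonoidAlgebra k G) S]
    [IsScalarTower k (MonoidAlgebra k G) S] (t g : G) :
    LinearMap.trace k S (act k S (single (t * g * t⁻¹) (1 : k))) =
      LinearMap.trace k S (act k S (single g (1 : k))) := by
  have e : single (t * g * t⁻¹) (1 : k) = single t (1 : k) * single g 1 * single t⁻¹ 1 := by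
    simp [single_mul_single]
  rw [e, map_mul (act k S), LinearMap.trace_mul_comm, ← map_mul (act k S), ← mul_assoc,
    single_mul_single, inv_mul_cancel, one_mul, ← one_def, one_mul]

/-- At most as many simple modules as regular classes. -/
theorem card_simple_le (hne : ∀ i j, i ≠ j → IsEmpty (T i ≃ₗ[MonoidAlgebra k G] T j)) :
    Fintype.card ι ≤ Nat.card (RegCls p G) := by
  classical
  letI := Fintype.ofFinite G
  haveI : Finite (ConjClasses G) := Quotient.finite _
  letI := Fintype.ofFinite (RegCls p G)
  let τ : ι → RegCls p G → k := fun j c =>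
    LinearMap.trace k (T j) (act k (T j) (single c.2.choose (1 : k)))
  have hli : LinearIndependent k τ := by
    refine Fintype.linearIndependent_iff.mpr fun c hc => congrFun (trace_indep (p := p) T hne c
      fun s hs => ?_)
    let C : RegCls p G := ⟨ConjClasses.mk s, s, rfl, hs⟩
    have h1 := congrFun hc C
    simp only [Finset.sum_apply, Pi.smul_apply, Pi.zero_apply, smul_eq_mul, τ] at h1
    refine Eq.trans (Finset.sum_congr rfl fun j _ => ?_) h1
    congr 1
    obtain ⟨t, ht⟩ := isConj_iff.mp (ConjClasses.mk_eq_mk_iff_isConj.mp C.2.choose_spec.1)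
    rw [← trace_conj (S := T j) t C.2.choose, ht]
  have := hli.fintype_card_le_finrank
  rw [Module.finrank_fintype_fun_eq_card] at this
  exact this.trans_eq Nat.card_eq_fintype_card.symm

end CfsgLib.SL2Tensor
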