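import Cfsg.Agent.SL2Tensor.Irred
import Cfsg.Agent.SL2Tensor.Count
import Cfsg.Agent.GLClass.SL
import Mathlib.RepresentationTheory.Irreducible

/-!
Every module of `SL₂(3ⁿ)` over an algebraically closed field of characteristic 3 has a series with
twisted tensor products as factors.
-/

set_option autoImplicit false
set_option linter.style.haveILetI false

namespace CfsgLib.SL2Tensor

open Module CfsgLib.Cyclic

/-- The characteristic polynomial of an endomorphism splits along an invariant subspace. -/
theorem charpoly_mapQ_mul {K V : Type*} [Field K] [AddCommGroup V] [Module K V]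
    [FiniteDimensional K V] (f : V →ₗ[K] V) (W : Submodule K V) (h : ∀ x ∈ W, f x ∈ W) :
    f.charpoly = (f.restrict h).charpoly * (W.mapQ W f h).charpoly := by
  classical
  obtain ⟨W', hW'⟩ := W.exists_isCompl
  let e := W.prodEquivOfIsCompl W' hW'
  let b := (Module.finBasis K W).prod (Module.finBasis K W')
  let q := W.quotientEquivOfIsCompl W' hW'
  let g : W' →ₗ[K] W' := (q.conj (W.mapQ W f h))
  rw [← e.symm.charpoly_conj f, ← LinearMap.charpoly_toMatrix _ b,
    ← LinearEquiv.charpoly_conj q (W.mapQ W f h), ← LinearMap.charpoly_toMatrix g (Module.finBasis K W'),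
    ← LinearMap.charpoly_toMatrix (f.restrict h) (Module.finBasis K W)]
  rw [← Matrix.fromBlocks_toBlocks (LinearMap.toMatrix b b (e.symm.conj f))]
  have h21 : (LinearMap.toMatrix b b (e.symm.conj f)).toBlocks₂₁ = 0 := by
    ext i j
    simp only [Matrix.toBlocks₂₁, Matrix.of_apply, LinearMap.toMatrix_apply, Matrix.zero_apply, b,
      Module.Basis.prod_repr_inr, Module.Basis.prod_apply_inl_fst]
    have : (e.symm.conj f ((b (Sum.inl j)))).2 = 0 := by
      rw [LinearEquiv.conj_apply_apply, LinearEquiv.symm_symm]
      have : e (b (Sum.inl j)) ∈ W := by simp [e, b]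
      exact (Submodule.prodEquivOfIsCompl_symm_apply_snd_eq_zero (h := hW')).mpr (h _ this)
    rw [this]; simp
  rw [h21, Matrix.charpoly_fromBlocks_zero₂₁]
  congr 2
  · ext i j
    simp only [Matrix.toBlocks₁₁, Matrix.of_apply, LinearMap.toMatrix_apply, b,
      Module.Basis.prod_repr_inl]
    congr 2
    rw [LinearEquiv.conj_apply_apply, LinearEquiv.symm_symm]
    have hm : e ((Module.finBasis K W).prod (Module.finBasis K W') (Sum.inl j)) =
        ((Module.finBasis K W j : W) : V) := by simp [e]
    rw [hm]
    exact congrArg Prod.fst (Submodule.prodEquivOfIsCompl_symm_apply_left W W' hW'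
      ⟨_, h _ (Module.finBasis K W j).2⟩)
  · ext i j
    simp only [Matrix.toBlocks₂₂, Matrix.of_apply, LinearMap.toMatrix_apply, b,
      Module.Basis.prod_repr_inr]
    congr 2
    rw [LinearEquiv.conj_apply_apply, LinearEquiv.symm_symm]
    have hm : e ((Module.finBasis K W).prod (Module.finBasis K W') (Sum.inr j)) =
        ((Module.finBasis K W' j : W') : V) := by simp [e]
    rw [hm]
    show _ = q (W.mapQ W f h (q.symm (Module.finBasis K W' j)))
    have hq : q.symm (Module.finBasis K W' j) =
        Submodule.Quotient.mk ((Module.finBasis K W' j : W') : V) :=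
      Submodule.quotientEquivOfIsCompl_symm_apply W W' hW' _
    rw [hq, Submodule.mapQ_apply]
    set y := f ((Module.finBasis K W' j : W') : V)
    obtain ⟨u, w, hy⟩ : ∃ (u : W) (w : W'), (u : V) + w = y :=
      ⟨_, _, W.prodEquivOfIsCompl W' hW' |>.apply_symm_apply y⟩
    rw [← hy]
    have h1 : e.symm ((u : V) + w) = (u, w) := by
      rw [LinearEquiv.symm_apply_eq]; simp [e]
    rw [h1, Submodule.Quotient.mk_add, (Submodule.Quotient.mk_eq_zero W).mpr u.2, zero_add]
    exact (Submodule.quotientEquivOfIsCompl_apply_mk_right hW' w).symm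

variable {F : Type*} [Field F] [Fintype F] {K : Type} [Field K] [CharP K 3]
  [IsAlgClosed K] (ι : F →+* K) {n : ℕ} (hF : Fintype.card F = 3 ^ n)

local notation "G" => Matrix.SpecialLinearGroup (Fin 2) F

include ι hF in
theorem card_regCls : Nat.card (RegCls 3 (Matrix.SpecialLinearGroup (Fin 2) F)) = 3 ^ n := by
  haveI : Fact (Nat.Prime 3) := ⟨Nat.prime_three⟩
  haveI : CharP F 3 := (RingHom.charP_iff_charP ι 3).mpr inferInstance
  have := CfsgLib.GLClass.card_regClass_sl (F := F) (n := 2) (p := 3) (by norm_num)
  rw [hF] at this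
  simpa [RegCls] using this

/-- The module of the twisted tensor product. -/
abbrev LMod (a : Fin n → Fin 3) := (rho ι a).asModule

theorem act_single_rho (a : Fin n → Fin 3) (g : G) (x : LMod ι a) :
    MonoidAlgebra.single g (1 : K) • x = rho ι a g ((rho ι a).asModuleEquiv x) := by
  rw [Representation.single_smul, one_smul]

include hF in
theorem simple_LMod (a : Fin n → Fin 3) : IsSimpleModule (MonoidAlgebra K G) (LMod ι a) :=
  (Representation.irreducible_iff_isSimpleModule_asModule _).mp (irreducible ι hF a)

include hF in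
theorem iso_LMod {a b : Fin n → Fin 3} (e : LMod ι a ≃ₗ[MonoidAlgebra K G] LMod ι b) : a = b := by
  refine eq_of_intertwined ι hF ((rho ι a).asModuleEquiv.symm.trans
    ((e.restrictScalars K).trans (rho ι b).asModuleEquiv)) fun g v => ?_
  have h := e.map_smul (MonoidAlgebra.single g (1 : K)) ((rho ι a).asModuleEquiv.symm v)
  rw [act_single_rho, act_single_rho, LinearEquiv.apply_symm_apply] at h
  exact h

include hF in
/-- Every simple module is a twisted tensor product. -/
theorem exists_iso {S : Type} [AddCommGroup S] [Module K S] [Module (MonoidAlgebra K G) S]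
    [IsScalarTower K (MonoidAlgebra K G) S] [IsSimpleModule (MonoidAlgebra K G) S] :
    ∃ a : Fin n → Fin 3, Nonempty (S ≃ₗ[MonoidAlgebra K G] LMod ι a) := by
  classical
  haveI : Fact (Nat.Prime 3) := ⟨Nat.prime_three⟩
  letI := Fintype.ofFinite G
  by_contra hcon
  have hgen : ∀ j : Option (Fin n → Fin 3), ∃ m : Submodule (MonoidAlgebra K G) (MonoidAlgebra K G),
      (∀ (_ : j = none), Nonempty ((MonoidAlgebra K G ⧸ m) ≃ₗ[MonoidAlgebra K G] S)) ∧
      (∀ a (_ : j = some a), Nonempty ((MonoidAlgebra K G ⧸ m) ≃ₗ[MonoidAlgebra K G] LMod ι a)) ∧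
      IsSimpleModule (MonoidAlgebra K G) (MonoidAlgebra K G ⧸ m) := by
    intro j
    cases j with
    | none =>
      haveI := IsSimpleModule.nontrivial (MonoidAlgebra K G) S
      obtain ⟨v, hv⟩ := exists_ne (0 : S)
      let φ := LinearMap.toSpanSingleton (MonoidAlgebra K G) S v
      have hs : Function.Surjective φ := IsSimpleModule.toSpanSingleton_surjective _ hv
      let e := φ.quotKerEquivOfSurjective hs
      exact ⟨_, fun _ => ⟨e⟩, fun a h => by simp at h, IsSimpleModule.congr e⟩
    | some a =>
      haveI := simple_LMod ι hF a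
      haveI := IsSimpleModule.nontrivial (MonoidAlgebra K G) (LMod ι a)
      obtain ⟨v, hv⟩ := exists_ne (0 : LMod ι a)
      let φ := LinearMap.toSpanSingleton (MonoidAlgebra K G) (LMod ι a) v
      have hs : Function.Surjective φ := IsSimpleModule.toSpanSingleton_surjective _ hv
      let e := φ.quotKerEquivOfSurjective hs
      refine ⟨_, fun h => by simp at h, fun b h => ?_, IsSimpleModule.congr e⟩
      cases Option.some_injective _ h
      exact ⟨e⟩
  choose m hm1 hm2 hm3 using hgen
  haveI : ∀ j, FiniteDimensional K (MonoidAlgebra K G ⧸ m j) := fun j => by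
    haveI : Module.Finite K (MonoidAlgebra K G) :=
      Module.Finite.of_basis (MonoidAlgebra.basis G K)
    exact Module.Finite.of_surjective ((m j).mkQ.restrictScalars K) (m j).mkQ_surjective
  haveI := hm3
  have hle := card_simple_le (p := 3) (fun j => MonoidAlgebra K G ⧸ m j) fun i j hij =>
    ⟨fun e => by
      rcases i with _ | a <;> rcases j with _ | b
      · exact hij rfl
      · exact hcon ⟨b, ⟨(hm1 none rfl).some.symm.trans (e.trans (hm2 _ b rfl).some)⟩⟩
      · exact hcon ⟨a, ⟨(hm1 none rfl).some.symm.trans (e.symm.trans (hm2 _ a rfl).some)⟩⟩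
      · exact hij (congrArg some (iso_LMod ι hF
          ((hm2 _ a rfl).some.symm.trans (e.trans (hm2 _ b rfl).some))))⟩
  rw [card_regCls ι hF, Fintype.card_option, Fintype.card_fun, Fintype.card_fin,
    Fintype.card_fin] at hle
  omega

include hF in
/-- The characteristic polynomials of a module are products of those of twisted tensor
products. -/
theorem charpoly_decomp_aux : ∀ (d : ℕ) (V : Type) [AddCommGroup V] [Module K V]
    [Module (MonoidAlgebra K G) V] [IsScalarTower K (MonoidAlgebra K G) V] [FiniteDimensional K V],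
    finrank K V = d → ∃ mlt : (Fin n → Fin 3) → ℕ, ∀ g : G,
      (act K V (MonoidAlgebra.single g (1 : K))).charpoly =
        ∏ a, (rhoM ι a g).charpoly ^ mlt a := by
  classical
  intro d
  induction d using Nat.strong_induction_on with
  | _ d ih =>
    intro V _ _ _ _ _ hd
    rcases subsingleton_or_nontrivial V with hV | hV
    · refine ⟨0, fun g => ?_⟩
      simp only [Pi.zero_apply, pow_zero, Finset.prod_const_one]
      refine (LinearMap.charpoly_monic _).natDegree_eq_zero.mp ?_
      rw [LinearMap.charpoly_natDegree, Module.finrank_zero_of_subsingleton]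
    haveI : IsArtinian (MonoidAlgebra K G) V := isArtinian_of_tower K inferInstance
    obtain ⟨S, hS⟩ := IsAtomic.exists_atom (Submodule (MonoidAlgebra K G) V)
    haveI : IsSimpleModule (MonoidAlgebra K G) S := isSimpleModule_iff_isAtom.mpr hS
    obtain ⟨a, ⟨e⟩⟩ := exists_iso ι hF (S := S)
    haveI : FiniteDimensional K S :=
      FiniteDimensional.finiteDimensional_submodule (S.restrictScalars K)
    haveI : FiniteDimensional K (V ⧸ S) :=
      Module.Finite.of_surjective (S.mkQ.restrictScalars K) S.mkQ_surjective
    have hlt : finrank K (V ⧸ S) < d := by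
      have h1 : finrank K (V ⧸ S) = finrank K (V ⧸ S.restrictScalars K) :=
        (Submodule.Quotient.restrictScalarsEquiv K S).symm.finrank_eq
      have h2 := (S.restrictScalars K).finrank_quotient_add_finrank
      have h3 : 0 < finrank K (S.restrictScalars K) := by
        rw [Module.finrank_pos_iff, Submodule.nontrivial_iff_ne_bot]
        intro h
        rw [Submodule.restrictScalars_eq_bot_iff] at h
        exact hS.1 h
      omega
    obtain ⟨mlt, hmlt⟩ := ih _ hlt (V ⧸ S) rfl
    refine ⟨Pi.single a 1 + mlt, fun g => ?_⟩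
    set f := act K V (MonoidAlgebra.single g (1 : K))
    have hinv : ∀ x ∈ S.restrictScalars K, f x ∈ S.restrictScalars K :=
      fun x hx => S.smul_mem _ hx
    rw [charpoly_mapQ_mul f (S.restrictScalars K) hinv]
    simp only [Pi.add_apply, pow_add, Finset.prod_mul_distrib, ← hmlt g]
    congr 1
    · rw [Finset.prod_eq_single a (fun b _ hb => by simp [hb]) (by simp), Pi.single_eq_same,
        pow_one, ← Matrix.charpoly_toLin']
      refine Eq.trans (LinearEquiv.charpoly_conj
        (((e.restrictScalars K).trans (rho ι a).asModuleEquiv :) :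
          ↥(S.restrictScalars K) ≃ₗ[K] (Idx a → K)) _).symm ?_
      congr 1
      refine LinearMap.ext fun v => ?_
      obtain ⟨x, rfl⟩ := ((e.restrictScalars K).trans (rho ι a).asModuleEquiv).surjective v
      erw [LinearEquiv.conj_apply_apply, LinearEquiv.symm_apply_apply]
      have h := e.map_smul (MonoidAlgebra.single g (1 : K)) x
      rw [act_single_rho] at h
      exact h

include hF in
/-- A matrix representation has the characteristic polynomials of twisted tensor products. -/
theorem charpoly_decomp {m : Type} [Fintype m] [DecidableEq m] (ρ : G →* Matrix m m K) :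
    ∃ mlt : (Fin n → Fin 3) → ℕ, ∀ g : G, (ρ g).charpoly =
      ∏ a, (rhoM ι a g).charpoly ^ mlt a := by
  let r : Representation K G (m → K) :=
    (Matrix.toLinAlgEquiv' (R := K) (n := m)).toMonoidHom.comp ρ
  haveI : FiniteDimensional K r.asModule := FiniteDimensional.of_injective
    r.asModuleEquiv.toLinearMap r.asModuleEquiv.injective
  obtain ⟨mlt, h⟩ := charpoly_decomp_aux ι hF _ r.asModule rfl
  refine ⟨mlt, fun g => ?_⟩
  rw [← h g, ← Matrix.charpoly_toLin', ← LinearEquiv.charpoly_conj r.asModuleEquiv]
  congr 1
  refine LinearMap.ext fun v => ?_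
  rw [LinearEquiv.conj_apply_apply, act_apply, Representation.single_smul, one_smul,
    LinearEquiv.apply_symm_apply]
  rfl

end CfsgLib.SL2Tensor
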