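import Mathlib

/-!
Twisted tensor products of the symmetric powers `0, 1, 2` of the natural module of `SL₂(3ⁿ)`:
definition and irreducibility.
-/

set_option autoImplicit false

namespace CfsgLib.SL2Tensor

open Matrix Polynomial

variable {K : Type*} [Field K]

/-- The symmetric power of a `2 × 2` matrix, for the degrees 0, 1, 2. -/
def symM (A : Matrix (Fin 2) (Fin 2) K) :
    (k : Fin 3) → Matrix (Fin (k.val + 1)) (Fin (k.val + 1)) K
  | ⟨0, _⟩ => 1
  | ⟨1, _⟩ => A
  | ⟨2, _⟩ => !![A 0 0 ^ 2, A 0 0 * A 0 1, A 0 1 ^ 2;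
      2 * (A 0 0 * A 1 0), A 0 0 * A 1 1 + A 0 1 * A 1 0, 2 * (A 0 1 * A 1 1);
      A 1 0 ^ 2, A 1 0 * A 1 1, A 1 1 ^ 2]

theorem symM_mul (A B : Matrix (Fin 2) (Fin 2) K) :
    ∀ k, symM (A * B) k = symM A k * symM B k
  | ⟨0, _⟩ => (mul_one _).symm
  | ⟨1, _⟩ => rfl
  | ⟨2, _⟩ => by
    ext i j
    fin_cases i <;> fin_cases j <;>
      simp [symM, Matrix.mul_apply, Fin.sum_univ_three, Fin.sum_univ_two] <;> ring

theorem symM_one : ∀ k, symM (1 : Matrix (Fin 2) (Fin 2) K) k = 1
  | ⟨0, _⟩ => rfl
  | ⟨1, _⟩ => rfl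
  | ⟨2, _⟩ => by
    ext i j
    fin_cases i <;> fin_cases j <;> simp [symM]

theorem symM_map {L : Type*} [Field L] (f : K →+* L) (A : Matrix (Fin 2) (Fin 2) K) :
    ∀ k, symM (A.map f) k = (symM A k).map f
  | ⟨0, _⟩ => (Matrix.map_one f (map_zero f) (map_one f)).symm
  | ⟨1, _⟩ => rfl
  | ⟨2, _⟩ => by
    ext i j
    fin_cases i <;> fin_cases j <;> simp [symM, map_ofNat]

/-- The diagonal symmetric powers. -/
theorem symM_diag (z w : K) : ∀ k, symM !![z, 0; 0, w] k =
    Matrix.diagonal fun j : Fin (k.val + 1) => z ^ (k.val - j.val) * w ^ j.val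
  | ⟨0, _⟩ => by
    ext i j
    fin_cases i; fin_cases j
    simp [symM]
  | ⟨1, _⟩ => by
    ext i j
    fin_cases i <;> fin_cases j <;> simp [symM]
  | ⟨2, _⟩ => by
    ext i j
    fin_cases i <;> fin_cases j <;> simp [symM]

variable {n : ℕ}

/-- The index set of the tensor product of degree `a`. -/
abbrev Idx (a : Fin n → Fin 3) := ∀ i, Fin ((a i).val + 1)

/-- The tensor product of the symmetric powers of a family of matrices. -/
def tens (a : Fin n → Fin 3) (M : Fin n → Matrix (Fin 2) (Fin 2) K) :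
    Matrix (Idx a) (Idx a) K :=
  fun j l => ∏ i, symM (M i) (a i) (j i) (l i)

theorem tens_mul (a : Fin n → Fin 3) (M N : Fin n → Matrix (Fin 2) (Fin 2) K) :
    tens a (M * N) = tens a M * tens a N := by
  ext j l
  simp only [tens, Pi.mul_apply, symM_mul, Matrix.mul_apply, Fintype.prod_sum, Finset.prod_mul_distrib]

theorem tens_one (a : Fin n → Fin 3) :
    tens a (1 : Fin n → Matrix (Fin 2) (Fin 2) K) = 1 := by
  ext j l
  simp only [tens, Pi.one_apply, symM_one]
  by_cases h : j = l
  · subst h; simp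
  · obtain ⟨i, hi⟩ := Function.ne_iff.mp h
    rw [Matrix.one_apply_ne h]
    exact Finset.prod_eq_zero (Finset.mem_univ i) (Matrix.one_apply_ne hi)

theorem tens_map {L : Type*} [Field L] (f : K →+* L) (a : Fin n → Fin 3)
    (M : Fin n → Matrix (Fin 2) (Fin 2) K) :
    tens a (fun i => (M i).map f) = (tens a M).map f := by
  ext j l
  simp [tens, symM_map, map_prod]

theorem tens_diag (a : Fin n → Fin 3) (z w : Fin n → K) :
    tens a (fun i => !![z i, 0; 0, w i]) =
      Matrix.diagonal fun j => ∏ i, z i ^ ((a i).val - (j i).val) * w i ^ (j i).val := by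
  ext j l
  by_cases h : j = l
  · subst h; simp [tens, symM_diag]
  · obtain ⟨i, hi⟩ := Function.ne_iff.mp h
    rw [Matrix.diagonal_apply_ne _ h]
    exact Finset.prod_eq_zero (Finset.mem_univ i) (by
      rw [symM_diag]; exact Matrix.diagonal_apply_ne _ hi)

section Unipotent

/-- The coefficient of `t ^ d` in the symmetric power of `(1 t; 0 1)`. -/
def upC (k : Fin 3) (d : Fin 3) : Matrix (Fin (k.val + 1)) (Fin (k.val + 1)) K :=
  fun j l => if l.val = j.val + d.val then (Nat.choose l.val j.val : K) else 0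

/-- The coefficient of `t ^ d` in the symmetric power of `(1 0; t 1)`. -/
def loC (k : Fin 3) (d : Fin 3) : Matrix (Fin (k.val + 1)) (Fin (k.val + 1)) K :=
  fun j l => if j.val = l.val + d.val then (Nat.choose (k.val - l.val) d.val : K) else 0

theorem symM_up (t : K) (k : Fin 3) (j l : Fin (k.val + 1)) :
    symM !![1, t; 0, 1] k j l = ∑ d : Fin 3, t ^ d.val * upC k d j l := by
  fin_cases k <;> fin_cases j <;> fin_cases l <;>
    simp [symM, upC, Fin.sum_univ_three] <;> ring

theorem symM_lo (t : K) (k : Fin 3) (j l : Fin (k.val + 1)) :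
    symM !![1, 0; t, 1] k j l = ∑ d : Fin 3, t ^ d.val * loC k d j l := by
  fin_cases k <;> fin_cases j <;> fin_cases l <;>
    simp [symM, loC, Fin.sum_univ_three] <;> ring

/-- The exponent of a digit vector. -/
def dexp (d : Fin n → Fin 3) : ℕ := ∑ i, (d i).val * 3 ^ i.val

theorem dexp_eq (d : Fin n → Fin 3) : dexp d = (finFunctionFinEquiv d : Fin (3 ^ n)).val := by
  rw [finFunctionFinEquiv_apply]; rfl

theorem dexp_injective : Function.Injective (dexp (n := n)) := fun d d' h =>
  finFunctionFinEquiv.injective (Fin.ext (by rw [← dexp_eq, ← dexp_eq, h]))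

theorem dexp_lt (d : Fin n → Fin 3) : dexp d < 3 ^ n := by
  rw [dexp_eq]; exact Fin.isLt _

/-- The component of exponent `d` of the upper unipotent group. -/
def upT (a : Fin n → Fin 3) (d : Fin n → Fin 3) : Matrix (Idx a) (Idx a) K :=
  fun j l => ∏ i, upC (a i) (d i) (j i) (l i)

/-- The component of exponent `d` of the lower unipotent group. -/
def loT (a : Fin n → Fin 3) (d : Fin n → Fin 3) : Matrix (Idx a) (Idx a) K :=
  fun j l => ∏ i, loC (a i) (d i) (j i) (l i)

theorem tens_up (a : Fin n → Fin 3) (t : K) :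
    tens a (fun i => !![1, t ^ 3 ^ i.val; 0, 1]) = ∑ d, t ^ dexp d • upT a d := by
  ext j l
  simp only [tens, symM_up, Fintype.prod_sum, Finset.prod_mul_distrib, Matrix.sum_apply,
    Matrix.smul_apply, smul_eq_mul, upT]
  refine Finset.sum_congr rfl fun d _ => ?_
  rw [dexp, ← Finset.prod_pow_eq_pow_sum]
  congr 1
  exact Finset.prod_congr rfl fun i _ => by rw [← pow_mul, mul_comm]

theorem tens_lo (a : Fin n → Fin 3) (t : K) :
    tens a (fun i => !![1, 0; t ^ 3 ^ i.val, 1]) = ∑ d, t ^ dexp d • loT a d := by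
  ext j l
  simp only [tens, symM_lo, Fintype.prod_sum, Finset.prod_mul_distrib, Matrix.sum_apply,
    Matrix.smul_apply, smul_eq_mul, loT]
  refine Finset.sum_congr rfl fun d _ => ?_
  rw [dexp, ← Finset.prod_pow_eq_pow_sum]
  congr 1
  exact Finset.prod_congr rfl fun i _ => by rw [← pow_mul, mul_comm]

/-- A combination with distinct exponents below `q` lying in a subspace at `q` points has all its
parts in the subspace. -/
theorem comp_mem {V : Type*} [AddCommGroup V] [Module K V] {W : Submodule K V} {S : Finset K}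
    (hS : S.card = 3 ^ n) (w : (Fin n → Fin 3) → V)
    (h : ∀ t ∈ S, ∑ d, t ^ dexp d • w d ∈ W) (d : Fin n → Fin 3) : w d ∈ W := by
  classical
  by_contra hd
  obtain ⟨φ, hφ, hφW⟩ := Submodule.exists_dual_map_eq_bot_of_notMem hd inferInstance
  have hW : ∀ x ∈ W, φ x = 0 := fun x hx =>
    (Submodule.mem_bot (R := K)).mp (hφW ▸ Submodule.mem_map_of_mem hx)
  let P : K[X] := ∑ d, Polynomial.monomial (dexp d) (φ (w d))
  have hP : P = 0 := by
    refine Polynomial.eq_zero_of_natDegree_lt_card_of_eval_eq_zero' P S (fun t ht => ?_) ?_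
    · have h1 := hW _ (h t ht)
      simp only [map_sum, map_smul, smul_eq_mul] at h1
      simp only [P, Polynomial.eval_finsetSum, Polynomial.eval_monomial]
      rw [← h1]
      exact Finset.sum_congr rfl fun _ _ => mul_comm _ _
    · rw [hS]
      refine lt_of_le_of_lt (Polynomial.natDegree_sum_le_of_forall_le (n := 3 ^ n - 1) _ _
        fun d _ => (Polynomial.natDegree_monomial_le _).trans ?_) ?_
      · have := dexp_lt d; omega
      · have : 0 < 3 ^ n := pow_pos (by norm_num) n
        omega
  have h2 := congrArg (fun p => p.coeff (dexp d)) hP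
  simp only [P, Polynomial.finsetSum_coeff, Polynomial.coeff_monomial, Polynomial.coeff_zero] at h2
  rw [Finset.sum_eq_single d (fun b _ hb => if_neg fun e => hb (dexp_injective e)) (by simp),
    if_pos rfl] at h2
  exact hφ h2

/-- The first basis index. -/
def zi (a : Fin n → Fin 3) : Idx a := fun _ => 0

theorem upC_zero (k : Fin 3) : upC (K := K) k 0 = 1 := by
  ext j l
  by_cases h : j = l
  · subst h; simp [upC]
  · rw [Matrix.one_apply_ne h, upC, if_neg]
    intro e
    exact h (Fin.ext (by simpa using e.symm))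

theorem upT_zero (a : Fin n → Fin 3) : upT (K := K) a 0 = 1 := by
  ext j l
  simp only [upT, Pi.zero_apply, upC_zero]
  by_cases h : j = l
  · subst h; simp
  · obtain ⟨i, hi⟩ := Function.ne_iff.mp h
    rw [Matrix.one_apply_ne h]
    exact Finset.prod_eq_zero (Finset.mem_univ i) (Matrix.one_apply_ne hi)

/-- The digits of a basis index. -/
def dig {a : Fin n → Fin 3} (l : Idx a) : Fin n → Fin 3 :=
  fun i => ⟨(l i).val, by have := (l i).isLt; have := (a i).isLt; omega⟩

theorem upT_top {a : Fin n → Fin 3} {v : Idx a → K} {l0 : Idx a} (hl0 : v l0 ≠ 0)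
    (hmax : ∀ l, v l ≠ 0 → ∑ i, (l i).val ≤ ∑ i, (l0 i).val) :
    upT a (dig l0) *ᵥ v = Pi.single (zi a) (v l0) := by
  classical
  funext j
  simp only [Matrix.mulVec, dotProduct, upT]
  rw [Finset.sum_eq_single l0]
  · by_cases hj : j = zi a
    · subst hj
      rw [Pi.single_eq_same, Finset.prod_eq_one, one_mul]
      intro i _
      simp [upC, zi, dig]
    · rw [Pi.single_eq_of_ne hj]
      obtain ⟨i, hi⟩ := Function.ne_iff.mp hj
      rw [Finset.prod_eq_zero (Finset.mem_univ i), zero_mul]
      rw [upC, if_neg]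
      intro e
      apply hi
      refine Fin.ext ?_
      simp only [dig] at e
      show (j i).val = 0
      omega
  · intro l _ hl
    by_cases hv : v l = 0
    · rw [hv, mul_zero]
    rw [mul_eq_zero]
    left
    by_contra hne
    simp only [Finset.prod_ne_zero_iff, Finset.mem_univ, true_implies] at hne
    have hge : ∀ i, (l0 i).val ≤ (l i).val := fun i => by
      have h := hne i
      by_cases e : (l i).val = (j i).val + (dig l0 i).val
      · simp only [dig] at e; omega
      · exact absurd (by rw [upC, if_neg e]) h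
    obtain ⟨i, hi⟩ := Function.ne_iff.mp hl
    have := Finset.sum_lt_sum (s := Finset.univ) (fun i _ => hge i)
      ⟨i, Finset.mem_univ i, lt_of_le_of_ne (hge i) fun e => hi (Fin.ext e.symm)⟩
    exact absurd (hmax l hv) (by omega)
  · simp

theorem loT_zi {a : Fin n → Fin 3} (l : Idx a) :
    ∃ c : K, ((2 : K) ≠ 0 → c ≠ 0) ∧
      loT a (dig l) *ᵥ Pi.single (zi a) 1 = Pi.single l c := by
  classical
  refine ⟨∏ i, (Nat.choose (a i).val (l i).val : K), fun h => ?_, ?_⟩
  · refine Finset.prod_ne_zero_iff.mpr fun i _ => ?_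
    have key : ∀ k : Fin 3, ∀ m : Fin (k.val + 1),
        Nat.choose k.val m.val = 1 ∨ Nat.choose k.val m.val = 2 := by decide
    rcases key (a i) (l i) with e | e <;> rw [e]
    · simp
    · simpa using h
  · funext j
    simp only [Matrix.mulVec_single, MulOpposite.op_one, one_smul, Matrix.col_apply, loT]
    by_cases hj : j = l
    · subst hj
      rw [Pi.single_eq_same]
      exact Finset.prod_congr rfl fun i _ => by simp [loC, zi, dig]
    · rw [Pi.single_eq_of_ne hj]
      obtain ⟨i, hi⟩ := Function.ne_iff.mp hj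
      refine Finset.prod_eq_zero (Finset.mem_univ i) ?_
      rw [loC, if_neg]
      intro e
      exact hi (Fin.ext (by simpa [zi, dig] using e))

end Unipotent

end CfsgLib.SL2Tensor
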