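import Cfsg.Agent.SL2Tensor.Basic

/-!
The twisted tensor products are irreducible and pairwise non-isomorphic.
-/

set_option autoImplicit false

namespace CfsgLib.SL2Tensor

open Matrix

variable {F : Type*} [Field F] {K : Type*} [Field K] [CharP K 3] (ι : F →+* K) {n : ℕ}

/-- The `i`-th twisted embedding. -/
def twist (i : ℕ) : F →+* K :=
  haveI : Fact (Nat.Prime 3) := ⟨Nat.prime_three⟩
  (iterateFrobenius K 3 i).comp ι

theorem twist_apply (i : ℕ) (x : F) : twist ι i x = ι x ^ 3 ^ i := by
  haveI : Fact (Nat.Prime 3) := ⟨Nat.prime_three⟩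
  simp [twist, iterateFrobenius_def]

/-- The matrices of the twisted tensor product. -/
def rhoM (a : Fin n → Fin 3) (g : Matrix.SpecialLinearGroup (Fin 2) F) :
    Matrix (Idx a) (Idx a) K :=
  tens a fun i => (g : Matrix (Fin 2) (Fin 2) F).map (twist ι i.val)

theorem rhoM_mul (a : Fin n → Fin 3) (g h : Matrix.SpecialLinearGroup (Fin 2) F) :
    rhoM ι a (g * h) = rhoM ι a g * rhoM ι a h := by
  rw [rhoM, rhoM, rhoM, ← tens_mul]
  congr 1
  funext i
  simp [Matrix.map_mul]

theorem rhoM_one (a : Fin n → Fin 3) :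
    rhoM ι a (1 : Matrix.SpecialLinearGroup (Fin 2) F) = 1 := by
  rw [rhoM, ← tens_one a]
  congr 1
  funext i
  simp

/-- The representation on the twisted tensor product. -/
noncomputable def rho (a : Fin n → Fin 3) :
    Representation K (Matrix.SpecialLinearGroup (Fin 2) F) (Idx a → K) where
  toFun g := Matrix.toLin' (rhoM ι a g)
  map_one' := by rw [rhoM_one, Matrix.toLin'_one]; rfl
  map_mul' g h := by rw [rhoM_mul, Matrix.toLin'_mul]; rfl

theorem rho_apply (a : Fin n → Fin 3) (g : Matrix.SpecialLinearGroup (Fin 2) F) (v : Idx a → K) :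
    rho ι a g v = rhoM ι a g *ᵥ v := rfl

/-- The upper unipotent elements. -/
def upE (t : F) : Matrix.SpecialLinearGroup (Fin 2) F :=
  ⟨!![1, t; 0, 1], by simp [Matrix.det_fin_two]⟩

/-- The lower unipotent elements. -/
def loE (t : F) : Matrix.SpecialLinearGroup (Fin 2) F :=
  ⟨!![1, 0; t, 1], by simp [Matrix.det_fin_two]⟩

/-- The diagonal elements. -/
def dgE (z : Fˣ) : Matrix.SpecialLinearGroup (Fin 2) F :=
  ⟨!![(z : F), 0; 0, ((z⁻¹ : Fˣ) : F)], by simp [Matrix.det_fin_two]⟩

theorem rhoM_up (a : Fin n → Fin 3) (t : F) :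
    rhoM ι a (upE t) = ∑ d, ι t ^ dexp d • upT a d := by
  rw [← tens_up]
  refine congrArg (tens a) (funext fun i => ?_)
  ext x y
  fin_cases x <;> fin_cases y <;> simp [upE, twist_apply]

theorem rhoM_lo (a : Fin n → Fin 3) (t : F) :
    rhoM ι a (loE t) = ∑ d, ι t ^ dexp d • loT a d := by
  rw [← tens_lo]
  refine congrArg (tens a) (funext fun i => ?_)
  ext x y
  fin_cases x <;> fin_cases y <;> simp [loE, twist_apply]

variable [Fintype F] (hF : Fintype.card F = 3 ^ n)
include hF

theorem up_mem {a : Fin n → Fin 3} {W : Submodule K (Idx a → K)} {v : Idx a → K}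
    (h : ∀ t, rhoM ι a (upE t) *ᵥ v ∈ W) (d : Fin n → Fin 3) : upT a d *ᵥ v ∈ W := by
  classical
  refine comp_mem (S := Finset.univ.image ι) (by
    rw [Finset.card_image_of_injective _ ι.injective, Finset.card_univ, hF])
    (fun d => upT a d *ᵥ v) (fun s hs => ?_) d
  obtain ⟨t, -, rfl⟩ := Finset.mem_image.mp hs
  have := h t
  rwa [rhoM_up, Matrix.sum_mulVec, Finset.sum_congr rfl fun d _ => Matrix.smul_mulVec _ _ _]
    at this

theorem lo_mem {a : Fin n → Fin 3} {W : Submodule K (Idx a → K)} {v : Idx a → K}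
    (h : ∀ t, rhoM ι a (loE t) *ᵥ v ∈ W) (d : Fin n → Fin 3) : loT a d *ᵥ v ∈ W := by
  classical
  refine comp_mem (S := Finset.univ.image ι) (by
    rw [Finset.card_image_of_injective _ ι.injective, Finset.card_univ, hF])
    (fun d => loT a d *ᵥ v) (fun s hs => ?_) d
  obtain ⟨t, -, rfl⟩ := Finset.mem_image.mp hs
  have := h t
  rwa [rhoM_lo, Matrix.sum_mulVec, Finset.sum_congr rfl fun d _ => Matrix.smul_mulVec _ _ _]
    at this

/-- An invariant non-zero subspace is everything. -/
theorem invariant_eq_top {a : Fin n → Fin 3} {W : Submodule K (Idx a → K)}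
    (hW : ∀ g, ∀ v ∈ W, rhoM ι a g *ᵥ v ∈ W) (hne : W ≠ ⊥) : W = ⊤ := by
  classical
  obtain ⟨v, hv, hv0⟩ := Submodule.exists_mem_ne_zero_of_ne_bot hne
  obtain ⟨l, hl⟩ := Function.ne_iff.mp hv0
  obtain ⟨l0, hl0, hmax⟩ := (Finset.univ.filter fun l => v l ≠ 0).exists_max_image
    (fun l => ∑ i, (l i).val) ⟨l, Finset.mem_filter.mpr ⟨Finset.mem_univ _, hl⟩⟩
  simp only [Finset.mem_filter, Finset.mem_univ, true_and] at hl0 hmax
  have h1 := up_mem ι hF (W := W) (v := v) (fun t => hW _ v hv) (dig l0)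
  rw [upT_top hl0 hmax] at h1
  have he0 : (Pi.single (zi a) 1 : Idx a → K) ∈ W := by
    have := W.smul_mem (v l0)⁻¹ h1
    rwa [← Pi.single_smul, smul_eq_mul, inv_mul_cancel₀ hl0] at this
  have h2 : (2 : K) ≠ 0 := fun h => by
    have : ((2 : ℕ) : K) = 0 := by simpa using h
    rw [CharP.cast_eq_zero_iff K 3] at this
    omega
  have hall : ∀ l, (Pi.single l 1 : Idx a → K) ∈ W := fun l => by
    obtain ⟨c, hc, e⟩ := loT_zi (K := K) l
    have h3 := lo_mem ι hF (W := W) (v := Pi.single (zi a) 1) (fun t => hW _ _ he0) (dig l)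
    rw [e] at h3
    have := W.smul_mem c⁻¹ h3
    rwa [← Pi.single_smul, smul_eq_mul, inv_mul_cancel₀ (hc h2)] at this
  refine eq_top_iff.mpr fun x _ => ?_
  rw [← Finset.univ_sum_single x]
  refine W.sum_mem fun l _ => ?_
  have := W.smul_mem (x l) (hall l)
  rwa [← Pi.single_smul, smul_eq_mul, mul_one] at this

/-- A vector fixed by the upper unipotent elements is a multiple of the first basis vector. -/
theorem fixed_up {a : Fin n → Fin 3} {v : Idx a → K}
    (h : ∀ t, rhoM ι a (upE t) *ᵥ v = v) : v = Pi.single (zi a) (v (zi a)) := by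
  classical
  by_cases hv : v = 0
  · subst hv; simp
  obtain ⟨l, hl⟩ := Function.ne_iff.mp hv
  obtain ⟨l0, hl0, hmax⟩ := (Finset.univ.filter fun l => v l ≠ 0).exists_max_image
    (fun l => ∑ i, (l i).val) ⟨l, Finset.mem_filter.mpr ⟨Finset.mem_univ _, hl⟩⟩
  simp only [Finset.mem_filter, Finset.mem_univ, true_and] at hl0 hmax
  by_cases hd : dig l0 = 0
  · have e := upT_top hl0 hmax
    rw [hd, upT_zero, Matrix.one_mulVec] at e
    have : l0 = zi a := funext fun i => Fin.ext (by
      have := congrArg Fin.val (congrFun hd i)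
      simpa [dig, zi] using this)
    rw [this] at e
    exact e
  exfalso
  let w : (Fin n → Fin 3) → Idx a → K := fun d => if d = 0 then 0 else upT a d *ᵥ v
  have hw : ∀ d, w d ∈ (⊥ : Submodule K (Idx a → K)) := by
    refine comp_mem (S := Finset.univ.image ι) (by
      rw [Finset.card_image_of_injective _ ι.injective, Finset.card_univ, hF]) w fun s hs => ?_
    obtain ⟨t, -, rfl⟩ := Finset.mem_image.mp hs
    rw [Submodule.mem_bot]
    have e := h t
    rw [rhoM_up, Matrix.sum_mulVec, Finset.sum_congr rfl fun d _ => Matrix.smul_mulVec _ _ _,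
      ← Finset.add_sum_erase _ _ (Finset.mem_univ (0 : Fin n → Fin 3)), upT_zero,
      Matrix.one_mulVec, show dexp (0 : Fin n → Fin 3) = 0 by simp [dexp], pow_zero, one_smul,
      add_eq_left] at e
    rw [← Finset.add_sum_erase _ _ (Finset.mem_univ (0 : Fin n → Fin 3))]
    simp only [w, if_pos, smul_zero, zero_add]
    refine Eq.trans (Finset.sum_congr rfl fun d hd => ?_) e
    rw [if_neg (Finset.ne_of_mem_erase hd)]
  have h1 := (Submodule.mem_bot K).mp (hw (dig l0))
  simp only [w, if_neg hd, upT_top hl0 hmax] at h1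
  exact hl0 (by simpa using congrFun h1 (zi a))

theorem irreducible (a : Fin n → Fin 3) : (rho ι a).IsIrreducible := by
  have : Nontrivial (Subrepresentation (rho ι a)) := by
    refine ⟨⟨⊥, fun g v hv => ?_⟩, ⟨⊤, fun _ _ _ => Submodule.mem_top⟩, fun e => ?_⟩
    · rw [Submodule.mem_bot] at hv ⊢
      rw [hv, map_zero]
    · exact bot_ne_top (α := Submodule K (Idx a → K)) (congrArg Subrepresentation.toSubmodule e)
  refine ⟨fun W => ?_⟩
  by_cases h : W.toSubmodule = ⊥
  · exact Or.inl (Subrepresentation.toSubmodule_injective h)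
  · exact Or.inr (Subrepresentation.toSubmodule_injective
      (invariant_eq_top ι hF (fun g v hv => W.apply_mem_toSubmodule g hv) h))

/-- Intertwined twisted tensor products have the same degree vector. -/
theorem eq_of_intertwined {a b : Fin n → Fin 3} (f : (Idx a → K) ≃ₗ[K] (Idx b → K))
    (hf : ∀ g v, f (rhoM ι a g *ᵥ v) = rhoM ι b g *ᵥ f v) : a = b := by
  classical
  set e0 : Idx a → K := Pi.single (zi a) 1
  have hdiag : ∀ (c : Fin n → Fin 3) (z : Fˣ),
      rhoM ι c (dgE z) *ᵥ (Pi.single (zi c) 1 : Idx c → K) =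
        (ι z ^ dexp c) • Pi.single (zi c) 1 := fun c z => by
    have : rhoM ι c (dgE z) = tens c fun i =>
        !![twist ι i.val (z : F), 0; 0, twist ι i.val ((z⁻¹ : Fˣ) : F)] := by
      refine congrArg (tens c) (funext fun i => ?_)
      ext x y
      fin_cases x <;> fin_cases y <;> simp [dgE]
    rw [this, tens_diag, Matrix.diagonal_mulVec_single, mul_one, ← Pi.single_smul, smul_eq_mul,
      mul_one]
    congr 1
    rw [dexp, ← Finset.prod_pow_eq_pow_sum]
    refine Finset.prod_congr rfl fun i _ => ?_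
    simp [zi, twist_apply, ← pow_mul, mul_comm]
  have hfix : ∀ t, rhoM ι b (upE t) *ᵥ f e0 = f e0 := fun t => by
    rw [← hf]
    congr 1
    rw [rhoM_up, Matrix.sum_mulVec, Finset.sum_congr rfl fun d _ => Matrix.smul_mulVec _ _ _,
      ← Finset.add_sum_erase _ _ (Finset.mem_univ (0 : Fin n → Fin 3)), upT_zero,
      Matrix.one_mulVec, show dexp (0 : Fin n → Fin 3) = 0 by simp [dexp], pow_zero, one_smul,
      add_eq_left]
    refine Finset.sum_eq_zero fun d hd => ?_
    obtain ⟨i, hi⟩ := Function.ne_iff.mp (Finset.ne_of_mem_erase hd)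
    have : upT (K := K) a d *ᵥ e0 = 0 := by
      funext j
      simp only [e0, Matrix.mulVec_single, MulOpposite.op_one, one_smul, Matrix.col_apply, upT,
        Pi.zero_apply]
      refine Finset.prod_eq_zero (Finset.mem_univ i) ?_
      rw [upC, if_neg]
      intro h
      apply hi
      simp [zi] at h
      exact Fin.ext (by simp; omega)
    rw [this, smul_zero]
  have hfe := fixed_up ι hF hfix
  have hne : f e0 (zi b) ≠ 0 := fun h0 => by
    rw [h0, Pi.single_zero, LinearEquiv.map_eq_zero_iff] at hfe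
    exact one_ne_zero (α := K) (by simpa [e0] using congrFun hfe (zi a))
  have hpow : ∀ z : Fˣ, ι z ^ dexp a = ι z ^ dexp b := fun z => by
    have h := hf (dgE z) e0
    rw [hdiag, map_smul, hfe] at h
    have h' := congrFun h (zi b)
    rw [show (Pi.single (zi b) (f e0 (zi b)) : Idx b → K) =
      (f e0 (zi b)) • Pi.single (zi b) 1 by simp [← Pi.single_smul], Matrix.mulVec_smul,
      hdiag] at h'
    simp only [Pi.smul_apply, Pi.single_eq_same, smul_eq_mul, mul_one] at h'
    exact mul_right_cancel₀ hne (by rw [h']; ring)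
  obtain ⟨g, hg⟩ := IsCyclic.exists_ofOrder_eq_natCard (α := Fˣ)
  have hord : orderOf g = 3 ^ n - 1 := by
    rw [hg, Nat.card_eq_fintype_card, Fintype.card_units, hF]
  have h1 : g ^ dexp a = g ^ dexp b := Units.ext (ι.injective (by
    simp only [Units.val_pow_eq_pow_val, map_pow]; exact hpow g))
  rw [pow_eq_pow_iff_modEq, hord] at h1
  have hla := dexp_lt a
  have hlb := dexp_lt b
  by_contra hab
  have hne' : dexp a ≠ dexp b := fun e => hab (dexp_injective e)
  -- the exponents are `0` and `3 ^ n - 1`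
  have hfr := f.finrank_eq
  rw [Module.finrank_fintype_fun_eq_card, Module.finrank_fintype_fun_eq_card, Fintype.card_pi,
    Fintype.card_pi] at hfr
  simp only [Fintype.card_fin] at hfr
  have key : ∀ u w : Fin n → Fin 3, dexp u = 0 → dexp w = 3 ^ n - 1 →
      ∏ i, ((u i).val + 1) ≠ ∏ i, ((w i).val + 1) := by
    intro u w hu hw
    have hu0 : u = 0 := dexp_injective (by rw [hu]; simp [dexp])
    have hw2 : w = fun _ => 2 := dexp_injective (by
      rw [hw]
      simp only [dexp, Fin.val_two, ← Finset.mul_sum, Fin.sum_univ_eq_sum_range (fun i => 3 ^ i)]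
      have := Nat.geomSum_eq (m := 3) (by norm_num) n
      have h2 : 2 ∣ 3 ^ n - 1 := by
        have := Nat.sub_dvd_pow_sub_pow 3 1 n
        simpa using this
      omega)
    subst hu0 hw2
    simp only [Pi.zero_apply, Fin.val_zero, Fin.val_two, Finset.prod_const, Finset.card_univ,
      Fintype.card_fin, zero_add, one_pow]
    intro e
    rcases Nat.eq_zero_or_pos n with rfl | hn
    · exact hab (funext fun i => i.elim0)
    · exact absurd e (Nat.one_lt_pow hn.ne' (by norm_num : 1 < 2 + 1)).ne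
  rcases Nat.lt_or_gt_of_ne hne' with h | h
  · have hd := (Nat.modEq_iff_dvd' h.le).mp h1
    have := Nat.le_of_dvd (Nat.sub_pos_of_lt h) hd
    exact key a b (by omega) (by omega) hfr
  · have hd := (Nat.modEq_iff_dvd' h.le).mp h1.symm
    have := Nat.le_of_dvd (Nat.sub_pos_of_lt h) hd
    exact key b a (by omega) (by omega) hfr.symm

end CfsgLib.SL2Tensor
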