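import Cfsg.Agent.SL2Tensor.Complete
import Mathlib.LinearAlgebra.Matrix.Charpoly.Coeff
import Mathlib.Logic.Equiv.Fin.Rotate

/-!
The multiplicities of the twisted tensor products are determined by the characteristic
polynomials, and are invariant under the Frobenius map for modules over the prime field.
-/

set_option autoImplicit false
set_option linter.style.haveILetI false

namespace CfsgLib.SL2Tensor

open Polynomial CfsgLib.Cyclic

variable {F : Type*} [Field F] [Fintype F] {K : Type} [Field K] [CharP K 3] [IsAlgClosed K]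
  (ι : F →+* K) {n : ℕ} (hF : Fintype.card F = 3 ^ n)

local notation "G" => Matrix.SpecialLinearGroup (Fin 2) F

include hF in
theorem mult_mod_three {u w : (Fin n → Fin 3) → ℕ}
    (h : ∀ g : G, ∏ a, (rhoM ι a g).charpoly ^ u a = ∏ a, (rhoM ι a g).charpoly ^ w a)
    (a : Fin n → Fin 3) : (u a : K) = w a := by
  classical
  haveI : Fact (Nat.Prime 3) := ⟨Nat.prime_three⟩
  haveI : ∀ b : Fin n → Fin 3, IsSimpleModule (MonoidAlgebra K G) (LMod ι b) := simple_LMod ι hF
  haveI : ∀ b : Fin n → Fin 3, FiniteDimensional K (LMod ι b) := fun b =>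
    FiniteDimensional.of_injective (rho ι b).asModuleEquiv.toLinearMap
      (rho ι b).asModuleEquiv.injective
  have key := trace_indep (p := 3) (k := K) (fun b : Fin n → Fin 3 => LMod ι b)
    (fun i j hij => ⟨fun e => hij (iso_LMod ι hF e)⟩) (fun b : Fin n → Fin 3 => (u b : K) - w b) fun s _ => by
    have htr : ∀ b : Fin n → Fin 3, LinearMap.trace K (LMod ι b)
        (act K (LMod ι b) (MonoidAlgebra.single s (1 : K))) = (rhoM ι b s).trace := fun b => by
      rw [← LinearMap.trace_conj' _ (rho ι b).asModuleEquiv, ← Matrix.trace_toLin'_eq]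
      congr 1
      refine LinearMap.ext fun v => ?_
      rw [LinearEquiv.conj_apply_apply, act_apply, act_single_rho, LinearEquiv.apply_symm_apply]
      rfl
    have hne : ∀ v : (Fin n → Fin 3) → ℕ,
        (∏ b, (rhoM ι b s).charpoly ^ v b).nextCoeff = -∑ b, (v b : K) * (rhoM ι b s).trace := by
      intro v
      rw [Polynomial.Monic.nextCoeff_prod _ _ fun b _ => (Matrix.charpoly_monic _).pow _,
        ← Finset.sum_neg_distrib]
      refine Finset.sum_congr rfl fun b _ => ?_
      rw [(Matrix.charpoly_monic _).nextCoeff_pow, Matrix.trace_eq_neg_charpoly_nextCoeff,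
        nsmul_eq_mul]
      ring
    have h1 := congrArg Polynomial.nextCoeff (h s)
    rw [hne, hne, neg_inj] at h1
    simp only [htr, sub_mul, Finset.sum_sub_distrib, h1, sub_self]
  exact sub_eq_zero.mp (congrFun key a)

include hF in
/-- The multiplicities are determined. -/
theorem mult_unique : ∀ (N : ℕ) (u w : (Fin n → Fin 3) → ℕ), ∑ a, (u a + w a) = N →
    (∀ g : G, ∏ a, (rhoM ι a g).charpoly ^ u a = ∏ a, (rhoM ι a g).charpoly ^ w a) → u = w := by
  classical
  haveI : Fact (Nat.Prime 3) := ⟨Nat.prime_three⟩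
  intro N
  induction N using Nat.strong_induction_on with
  | _ N ih =>
    intro u w hN h
    by_cases hcom : ∃ a, u a ≠ 0 ∧ w a ≠ 0
    · obtain ⟨a, hu, hw⟩ := hcom
      set δ : (Fin n → Fin 3) → ℕ := Pi.single a 1
      have eu : u = (u - δ) + δ := funext fun b => by
        rcases eq_or_ne b a with rfl | hb
        · simp only [δ, Pi.add_apply, Pi.sub_apply, Pi.single_eq_same]; omega
        · simp [δ, hb]
      have ew : w = (w - δ) + δ := funext fun b => by
        rcases eq_or_ne b a with rfl | hb
        · simp only [δ, Pi.add_apply, Pi.sub_apply, Pi.single_eq_same]; omega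
        · simp [δ, hb]
      have hlt : ∑ b, ((u - δ) b + (w - δ) b) < N := by
        rw [← hN]
        refine Finset.sum_lt_sum (fun b _ => ?_) ⟨a, Finset.mem_univ a, ?_⟩
        · simp only [Pi.sub_apply]; omega
        · simp only [Pi.sub_apply, δ, Pi.single_eq_same]; omega
      have := ih _ hlt (u - δ) (w - δ) rfl fun g => by
        have hg := h g
        rw [eu, ew] at hg
        simp only [Pi.add_apply, pow_add, Finset.prod_mul_distrib] at hg
        exact mul_right_cancel₀ (Finset.prod_ne_zero_iff.mpr fun b _ =>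
          pow_ne_zero _ (Matrix.charpoly_monic _).ne_zero) hg
      rw [eu, ew, this]
    simp only [not_exists, not_and, not_not] at hcom
    have hdiv : ∀ a, 3 ∣ u a ∧ 3 ∣ w a := fun a => by
      have e := mult_mod_three ι hF h a
      rcases eq_or_ne (u a) 0 with h0 | h0
      · rw [h0, Nat.cast_zero, eq_comm, CharP.cast_eq_zero_iff K 3] at e
        exact ⟨h0 ▸ dvd_zero 3, e⟩
      · rw [hcom a h0, Nat.cast_zero, CharP.cast_eq_zero_iff K 3] at e
        exact ⟨e, hcom a h0 ▸ dvd_zero 3⟩
    by_cases hz : ∀ a, u a + w a = 0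
    · funext a; have := hz a; omega
    simp only [not_forall] at hz
    obtain ⟨a, ha⟩ := hz
    have hlt : ∑ b, (u b / 3 + w b / 3) < N := by
      rw [← hN]
      refine Finset.sum_lt_sum (fun b _ => ?_) ⟨a, Finset.mem_univ a, ?_⟩
      · have := Nat.div_le_self (u b) 3; have := Nat.div_le_self (w b) 3; omega
      · have := hdiv a; omega
    have := ih _ hlt (fun b => u b / 3) (fun b => w b / 3) rfl fun g => by
      refine frobenius_inj K[X] 3 ?_
      simp only [frobenius_def, ← Finset.prod_pow, ← pow_mul]
      have hu' : ∀ b, u b / 3 * 3 = u b := fun b => Nat.div_mul_cancel (hdiv b).1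
      have hw' : ∀ b, w b / 3 * 3 = w b := fun b => Nat.div_mul_cancel (hdiv b).2
      simp only [hu', hw']
      exact h g
    funext b
    have e := congrFun this b
    rw [← Nat.div_mul_cancel (hdiv b).1, ← Nat.div_mul_cancel (hdiv b).2, e]

include hF in
theorem twist_add_n (i : ℕ) : twist ι (i + n) = twist ι i := by
  refine RingHom.ext fun x => ?_
  rw [twist_apply, twist_apply, pow_add, mul_comm, pow_mul, ← map_pow, ← hF, FiniteField.pow_card]

/-- The shift of a degree vector. -/
def shift (a : Fin n → Fin 3) : Fin n → Fin 3 := a ∘ (finRotate n).symm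

include hF in
theorem charpoly_frob (a : Fin n → Fin 3) (g : G) :
    haveI : Fact (Nat.Prime 3) := ⟨Nat.prime_three⟩
    (rhoM ι a g).charpoly.map (frobenius K 3) = (rhoM ι (shift a) g).charpoly := by
  classical
  haveI : Fact (Nat.Prime 3) := ⟨Nat.prime_three⟩
  set σ := finRotate n
  have h1 : ∀ i : Fin n, (frobenius K 3).comp (twist ι i.val) = twist ι (σ i).val := fun i => by
    have hs : (frobenius K 3).comp (twist ι i.val) = twist ι (i.val + 1) :=
      RingHom.ext fun x => by
        rw [RingHom.comp_apply, frobenius_def, twist_apply, twist_apply, ← pow_mul, ← pow_succ]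
    rw [hs]
    rcases n with _ | k
    · exact i.elim0
    rcases eq_or_ne i (Fin.last k) with rfl | hi
    · rw [show (σ (Fin.last k)).val = 0 by simp [σ]]
      have := twist_add_n ι hF 0
      simpa using this
    · rw [show (σ i).val = i.val + 1 by
        simp only [σ]
        exact coe_finRotate_of_ne_last hi]
  rw [← Matrix.charpoly_map, rhoM, ← tens_map]
  have h2 : (fun i : Fin n => ((g : Matrix (Fin 2) (Fin 2) F).map (twist ι i.val)).map
      (frobenius K 3)) = fun i => (g : Matrix (Fin 2) (Fin 2) F).map (twist ι (σ i).val) :=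
    funext fun i => by rw [← h1]; rfl
  rw [h2]
  let e : Idx a ≃ Idx (shift a) := Equiv.piCongrLeft' (fun i => Fin ((a i).val + 1)) σ
  rw [← Matrix.charpoly_reindex e]
  congr 1
  ext j l
  simp only [Matrix.reindex_apply, Matrix.submatrix_apply, tens, rhoM]
  refine Fintype.prod_equiv σ _ _ fun i => ?_
  obtain ⟨j, rfl⟩ := e.surjective j
  obtain ⟨l, rfl⟩ := e.surjective l
  simp only [Equiv.symm_apply_apply]
  have hk : ∀ (x : Idx a) (k : Fin n), e x k = x (σ.symm k) := fun x k => rfl
  simp only [hk]
  have key : ∀ i' : Fin n, i' = i →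
      symM ((g : Matrix (Fin 2) (Fin 2) F).map (twist ι (σ i).val)) (a i) (j i) (l i) =
      symM ((g : Matrix (Fin 2) (Fin 2) F).map (twist ι (σ i).val)) (a i') (j i') (l i') := by
    rintro i' rfl; rfl
  exact key _ (σ.symm_apply_apply i)

include hF in
/-- For a representation over the prime field the multiplicities are invariant. -/
theorem mult_shift {m : Type} [Fintype m] [DecidableEq m] [Algebra (ZMod 3) K]
    (ρ : G →* Matrix m m (ZMod 3)) {mlt : (Fin n → Fin 3) → ℕ}
    (h : ∀ g : G, ((ρ g).map (algebraMap (ZMod 3) K)).charpoly =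
      ∏ a, (rhoM ι a g).charpoly ^ mlt a) (a : Fin n → Fin 3) :
    mlt (shift a) = mlt a := by
  classical
  haveI : Fact (Nat.Prime 3) := ⟨Nat.prime_three⟩
  let τ : (Fin n → Fin 3) ≃ (Fin n → Fin 3) :=
    Equiv.piCongrLeft' (fun _ => Fin 3) (finRotate n)
  have e : (mlt ∘ τ.symm) = mlt := mult_unique ι hF _ _ _ rfl fun g => by
    have h1 := congrArg (Polynomial.map (frobenius K 3)) (h g)
    rw [Matrix.charpoly_map, Polynomial.map_map,
      show (frobenius K 3).comp (algebraMap (ZMod 3) K) = algebraMap (ZMod 3) K from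
        RingHom.ext_zmod _ _, ← Matrix.charpoly_map, h g, Polynomial.map_prod] at h1
    simp only [Polynomial.map_pow, charpoly_frob ι hF] at h1
    refine Eq.trans ?_ h1.symm
    refine (Fintype.prod_equiv τ _ _ fun b => ?_).symm
    simp only [Function.comp_apply, Equiv.symm_apply_apply]
    rfl
  have := congrFun e (τ a)
  simp only [Function.comp_apply, Equiv.symm_apply_apply] at this
  exact this.symm

end CfsgLib.SL2Tensor
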